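import Mathlib
import Cfsg.Agent.CTFrame.Root
import Cfsg.Agent.LieClassical.SLGen

/-!
# Facts on `PSL₃(F)`, characteristic not 2

`S3 F = SL (Fin 3) F`, `dg c`, `std a b` as in `CTFrame.SL3`, `P = S3 F ⧸ center`, `pr` the projection.

* `exists_conj` (D1): two different commuting involutions of `P` are simultaneously conjugate to `pr (dg a)`, `pr (dg b)`;
* `le_std` (D2): a perfect subgroup of `P` centralizing `pr (dg c)` lies in the image of `std a b`;
* `std_equiv`, `std_inf_center` (D3); `std_sup` (D4); `eq_std` (D5).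
-/

set_option autoImplicit false
set_option linter.unusedSectionVars false

namespace Cfsg.Agent.LThreeModel.SL3

open Matrix Cfsg.Agent.CTFrame.SL3 Cfsg.Agent.CTFrame.Root

universe u

variable {F : Type u} [Field F]

/-! ### polynomial identities for 3 × 3 matrices -/

theorem cayley (A : Matrix (Fin 3) (Fin 3) F) :
    A * A * A - A.trace • (A * A) + A.adjugate.trace • A - A.det • (1 : Matrix (Fin 3) (Fin 3) F) = 0 := by
  ext i j
  fin_cases i <;> fin_cases j <;>
    simp [Matrix.mul_apply, Fin.sum_univ_three, Matrix.trace_fin_three, Matrix.adjugate_fin_three,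
      Matrix.det_fin_three] <;> ring

theorem two_mul_trace_adjugate (A : Matrix (Fin 3) (Fin 3) F) :
    2 * A.adjugate.trace = A.trace * A.trace - (A * A).trace := by
  simp [Matrix.mul_apply, Fin.sum_univ_three, Matrix.trace_fin_three, Matrix.adjugate_fin_three]
  ring

theorem trace_eq {U : S3 F} (h : U * U = 1) (h1 : U ≠ 1) : (U.1 : Matrix (Fin 3) (Fin 3) F).trace = -1 := by
  have hinv : U⁻¹ = U := inv_eq_of_mul_eq_one_left h
  have hadj : (U.1 : Matrix (Fin 3) (Fin 3) F).adjugate = U.1 := by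
    exact (Matrix.SpecialLinearGroup.coe_inv U).symm.trans (congrArg Subtype.val hinv)
  have hsq : (U.1 : Matrix (Fin 3) (Fin 3) F) * U.1 = 1 := congrArg Subtype.val h
  have h2 := cayley (U.1 : Matrix (Fin 3) (Fin 3) F)
  rw [hadj, hsq, U.2, one_mul] at h2
  by_contra hne
  have h3 : (1 + (U.1 : Matrix (Fin 3) (Fin 3) F).trace) ≠ 0 := fun e => hne (by linear_combination e)
  apply h1
  apply Subtype.ext
  have h4 : (1 + (U.1 : Matrix (Fin 3) (Fin 3) F).trace) • ((U.1 : Matrix (Fin 3) (Fin 3) F) - 1) = 0 := by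
    rw [← h2, smul_sub, add_smul, add_smul, one_smul, one_smul]
    abel
  exact sub_eq_zero.mp ((smul_eq_zero.mp h4).resolve_left h3)

theorem eq_zero_of_idem (h2 : (2 : F) ≠ 0) {E : Matrix (Fin 3) (Fin 3) F} (hE : E * E = E)
    (ht : E.trace = 0) (h1 : E ≠ 1) : E = 0 := by
  have hs : E.adjugate.trace = 0 := by
    have := two_mul_trace_adjugate E
    rw [hE, ht, mul_zero, sub_zero] at this
    exact (mul_eq_zero.mp this).resolve_left h2
  have h3 := cayley E
  rw [hE, hE, ht, hs, zero_smul, sub_zero, add_zero, sub_eq_zero] at h3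
  have h4 : E.det * E.det = E.det := by
    rw [← Matrix.det_mul, hE]
  have h5 : E.det * (E.det - 1) = 0 := by linear_combination h4
  rcases mul_eq_zero.mp h5 with h | h
  · rw [h3, h, zero_smul]
  · exact absurd (by rw [h3, sub_eq_zero.mp h, one_smul]) h1

/-- two commuting involutions have no common fixed vector -/
theorem sum_eq_zero (h2 : (2 : F) ≠ 0) {U V : S3 F} (hU : U * U = 1) (hV : V * V = 1) (hU1 : U ≠ 1)
    (hV1 : V ≠ 1) (hUV : U ≠ V) (hc : U * V = V * U) :
    (1 : Matrix (Fin 3) (Fin 3) F) + U.1 + V.1 + U.1 * V.1 = 0 := by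
  have hUu : (U.1 : Matrix (Fin 3) (Fin 3) F) * U.1 = 1 := congrArg Subtype.val hU
  have hVv : (V.1 : Matrix (Fin 3) (Fin 3) F) * V.1 = 1 := congrArg Subtype.val hV
  have hcm : (U.1 : Matrix (Fin 3) (Fin 3) F) * V.1 = V.1 * U.1 := congrArg Subtype.val hc
  have hW : (U * V) * (U * V) = 1 := by
    calc (U * V) * (U * V) = U * (V * U) * V := by group
      _ = (U * U) * (V * V) := by rw [← hc]; group
      _ = 1 := by rw [hU, hV, one_mul]
  have hW1 : U * V ≠ 1 := fun e => hUV (by
    rw [mul_eq_one_iff_eq_inv, inv_eq_of_mul_eq_one_left hV] at e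
    exact e)
  have h4 : (4 : F) ≠ 0 := by
    have : (4 : F) = 2 * 2 := by norm_num
    rw [this]
    exact mul_ne_zero h2 h2
  set N : Matrix (Fin 3) (Fin 3) F := 1 + U.1 + V.1 + U.1 * V.1 with hN
  have hUN : (U.1 : Matrix (Fin 3) (Fin 3) F) * N = N := by
    rw [hN, mul_add, mul_add, mul_add, mul_one, hUu, ← mul_assoc, hUu, one_mul]
    abel
  have hVN : (V.1 : Matrix (Fin 3) (Fin 3) F) * N = N := by
    rw [hN, mul_add, mul_add, mul_add, mul_one, hVv, hcm, ← mul_assoc, hVv, one_mul]
    abel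
  have hNN : N * N = (4 : F) • N := by
    have e : N * N = N + U.1 * N + V.1 * N + U.1 * (V.1 * N) := by
      nth_rw 1 [hN]
      rw [add_mul, add_mul, add_mul, one_mul, mul_assoc]
    rw [e, hVN, hUN]
    have : (4 : F) = 1 + 1 + 1 + 1 := by norm_num
    rw [this, add_smul, add_smul, add_smul, one_smul]
  have htr : N.trace = 0 := by
    have e1 := trace_eq hU hU1
    have e2 := trace_eq hV hV1
    have e3 : ((U.1 : Matrix (Fin 3) (Fin 3) F) * V.1).trace = -1 := trace_eq hW hW1
    rw [hN, Matrix.trace_add, Matrix.trace_add, Matrix.trace_add, e1, e2, e3, Matrix.trace_one]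
    norm_num
  have hE : ((4 : F)⁻¹ • N) * ((4 : F)⁻¹ • N) = (4 : F)⁻¹ • N := by
    rw [Matrix.smul_mul, Matrix.mul_smul, hNN, smul_smul, smul_smul, mul_assoc, inv_mul_cancel₀ h4, mul_one]
  have h5 := eq_zero_of_idem h2 hE (by rw [Matrix.trace_smul, htr, smul_zero]) (fun e => hU1 (by
    have e1 : N = (4 : F) • (1 : Matrix (Fin 3) (Fin 3) F) := by
      rw [← e, smul_smul, mul_inv_cancel₀ h4, one_smul]
    rw [e1, Matrix.mul_smul, mul_one] at hUN
    have e2 := congrArg (fun m => (4 : F)⁻¹ • m) hUN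
    simp only [smul_smul, inv_mul_cancel₀ h4, one_smul] at e2
    exact Subtype.ext e2))
  exact (smul_eq_zero.mp h5).resolve_left (inv_ne_zero h4)

/-! ### simultaneous diagonalization -/

theorem ne_neg_one (h2 : (2 : F) ≠ 0) {U : S3 F} (hU : U * U = 1) (hU1 : U ≠ 1) :
    (1 : Matrix (Fin 3) (Fin 3) F) + U.1 ≠ 0 := by
  intro e
  have h1 := trace_eq hU hU1
  have h3 : (U.1 : Matrix (Fin 3) (Fin 3) F) = -1 := by
    rw [eq_neg_iff_add_eq_zero, add_comm]; exact e
  rw [h3, Matrix.trace_neg, Matrix.trace_one] at h1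
  apply h2
  norm_num at h1
  linear_combination h1

theorem exists_col {A : Matrix (Fin 3) (Fin 3) F} (hA : A ≠ 0) : ∃ j, (fun i => A i j) ≠ 0 := by
  by_contra hcon
  push Not at hcon
  exact hA (Matrix.ext fun i j => congrFun (hcon j) i)

/-- multiplication of a column -/
theorem col_mul {A B : Matrix (Fin 3) (Fin 3) F} {t : F} (h : B * A = t • A) (j i : Fin 3) :
    ∑ k, B i k * A k j = t * A i j := by
  have := congrFun (congrFun h i) j
  rwa [Matrix.mul_apply, Matrix.smul_apply, smul_eq_mul] at this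

theorem exists_conj_lift (h2 : (2 : F) ≠ 0) {U V : S3 F} (hU : U * U = 1) (hV : V * V = 1) (hU1 : U ≠ 1)
    (hV1 : V ≠ 1) (hUV : U ≠ V) (hc : U * V = V * U) {a b c : Fin 3} (hab : a ≠ b) (hbc : b ≠ c)
    (hac : a ≠ c) : ∃ g : S3 F, g * U * g⁻¹ = dg a ∧ g * V * g⁻¹ = dg b := by
  have hUu : (U.1 : Matrix (Fin 3) (Fin 3) F) * U.1 = 1 := congrArg Subtype.val hU
  have hVv : (V.1 : Matrix (Fin 3) (Fin 3) F) * V.1 = 1 := congrArg Subtype.val hV
  have hcm : (U.1 : Matrix (Fin 3) (Fin 3) F) * V.1 = V.1 * U.1 := congrArg Subtype.val hc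
  have hW : (U * V) * (U * V) = 1 := by
    calc (U * V) * (U * V) = U * (V * U) * V := by group
      _ = (U * U) * (V * V) := by rw [← hc]; group
      _ = 1 := by rw [hU, hV, one_mul]
  have hW1 : U * V ≠ 1 := fun e => hUV (by
    rw [mul_eq_one_iff_eq_inv, inv_eq_of_mul_eq_one_left hV] at e
    exact e)
  have hN := sum_eq_zero h2 hU hV hU1 hV1 hUV hc
  obtain ⟨ja, hja⟩ := exists_col (ne_neg_one h2 hU hU1)
  obtain ⟨jb, hjb⟩ := exists_col (ne_neg_one h2 hV hV1)
  obtain ⟨jc, hjc⟩ := exists_col (ne_neg_one h2 hW hW1)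
  obtain ⟨A, hA⟩ : ∃ A : Matrix (Fin 3) (Fin 3) F, A = 1 + U.1 := ⟨_, rfl⟩
  obtain ⟨B, hB⟩ : ∃ B : Matrix (Fin 3) (Fin 3) F, B = 1 + V.1 := ⟨_, rfl⟩
  obtain ⟨C, hC⟩ : ∃ C : Matrix (Fin 3) (Fin 3) F, C = 1 + (U * V).1 := ⟨_, rfl⟩
  rw [← hA] at hja
  rw [← hB] at hjb
  rw [← hC] at hjc
  have hCv : C = 1 + U.1 * V.1 := hC
  have u1 : (U.1 : Matrix (Fin 3) (Fin 3) F) * A = (1 : F) • A := by
    rw [hA, mul_add, mul_one, hUu, one_smul, add_comm]
  have v1 : (V.1 : Matrix (Fin 3) (Fin 3) F) * A = (-1 : F) • A := by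
    rw [hA, mul_add, mul_one, ← hcm, neg_smul, one_smul, eq_neg_iff_add_eq_zero, ← hN]
    abel
  have u2 : (U.1 : Matrix (Fin 3) (Fin 3) F) * B = (-1 : F) • B := by
    rw [hB, mul_add, mul_one, neg_smul, one_smul, eq_neg_iff_add_eq_zero, ← hN]
    abel
  have v2 : (V.1 : Matrix (Fin 3) (Fin 3) F) * B = (1 : F) • B := by
    rw [hB, mul_add, mul_one, hVv, one_smul, add_comm]
  have u3 : (U.1 : Matrix (Fin 3) (Fin 3) F) * C = (-1 : F) • C := by
    rw [hCv, mul_add, mul_one, ← mul_assoc, hUu, one_mul, neg_smul, one_smul, eq_neg_iff_add_eq_zero, ← hN]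
    abel
  have v3 : (V.1 : Matrix (Fin 3) (Fin 3) F) * C = (-1 : F) • C := by
    rw [hCv, mul_add, mul_one, hcm, ← mul_assoc, hVv, one_mul, neg_smul, one_smul, eq_neg_iff_add_eq_zero,
      ← hN, hcm]
    abel
  -- the matrix of eigenvectors
  let G : Matrix (Fin 3) (Fin 3) F := fun i j => if j = a then A i ja else if j = b then B i jb else C i jc
  have Ga : ∀ i, G i a = A i ja := fun i => if_pos rfl
  have Gb : ∀ i, G i b = B i jb := fun i => by
    change (if b = a then _ else if b = b then _ else _) = _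
    rw [if_neg hab.symm, if_pos rfl]
  have Gc : ∀ i, G i c = C i jc := fun i => by
    change (if c = a then _ else if c = b then _ else _) = _
    rw [if_neg hac.symm, if_neg hbc.symm]
  have hUG : (U.1 : Matrix (Fin 3) (Fin 3) F) * G = G * (dg a : S3 F).1 := by
    ext i j
    change _ = (G * Matrix.diagonal fun i => if i = a then (1 : F) else -1) i j
    rw [Matrix.mul_diagonal, Matrix.mul_apply]
    rcases cases3 hab hbc hac j with rfl | rfl | rfl
    · simp only [Ga, if_true, mul_one]
      rw [col_mul u1, one_mul]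
    · simp only [Gb, if_neg hab.symm]
      rw [col_mul u2]; ring
    · simp only [Gc, if_neg hac.symm]
      rw [col_mul u3]; ring
  have hVG : (V.1 : Matrix (Fin 3) (Fin 3) F) * G = G * (dg b : S3 F).1 := by
    ext i j
    change _ = (G * Matrix.diagonal fun i => if i = b then (1 : F) else -1) i j
    rw [Matrix.mul_diagonal, Matrix.mul_apply]
    rcases cases3 hab hbc hac j with rfl | rfl | rfl
    · simp only [Ga, if_neg hab]
      rw [col_mul v1]; ring
    · simp only [Gb, if_true, mul_one]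
      rw [col_mul v2, one_mul]
    · simp only [Gc, if_neg hbc.symm]
      rw [col_mul v3]; ring
  have hdet : G.det ≠ 0 := by
    intro h0
    obtain ⟨w, hw, hGw⟩ := Matrix.exists_mulVec_eq_zero_iff.mpr h0
    have e0 : ∀ i, G i a * w a + G i b * w b + G i c * w c = 0 := fun i => by
      have := congrFun hGw i
      rwa [Matrix.mulVec, dotProduct, sum3 hab hbc hac] at this
    have key : ∀ (X : S3 F) (d : Fin 3), (X.1 : Matrix (Fin 3) (Fin 3) F) * G = G * (dg d : S3 F).1 →
        ∀ i, (G i a * w a) * (if a = d then 1 else -1) + (G i b * w b) * (if b = d then 1 else -1) +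
          (G i c * w c) * (if c = d then 1 else -1) = 0 := by
      intro X d hX i
      have h3 : (X.1 : Matrix (Fin 3) (Fin 3) F) *ᵥ (G *ᵥ w) = 0 := by rw [hGw, Matrix.mulVec_zero]
      rw [Matrix.mulVec_mulVec, hX] at h3
      have h4 := congrFun h3 i
      rw [Matrix.mulVec, dotProduct, sum3 hab hbc hac, Pi.zero_apply] at h4
      have h5 : ∀ j, (G * (dg d : S3 F).1) i j = G i j * (if j = d then 1 else -1) := fun j => by
        change (G * Matrix.diagonal fun i => if i = d then (1 : F) else -1) i j = _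
        rw [Matrix.mul_diagonal]
      rw [h5, h5, h5] at h4
      linear_combination h4
    have ka := key U a hUG
    have kb := key V b hVG
    simp only [if_true, if_neg hab.symm, if_neg hac.symm] at ka
    simp only [if_true, if_neg hab, if_neg hbc.symm] at kb
    have wa : w a = 0 := by
      by_contra hne
      apply hja
      funext i
      have h3 : 2 * w a * G i a = 0 := by linear_combination e0 i + ka i
      have := (mul_eq_zero.mp h3).resolve_left (mul_ne_zero h2 hne)
      rw [← Ga]; exact this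
    have wb : w b = 0 := by
      by_contra hne
      apply hjb
      funext i
      have h3 : 2 * w b * G i b = 0 := by linear_combination e0 i + kb i
      have := (mul_eq_zero.mp h3).resolve_left (mul_ne_zero h2 hne)
      rw [← Gb]; exact this
    have wc : w c = 0 := by
      by_contra hne
      apply hjc
      funext i
      have h3 : w c * G i c = 0 := by
        have := e0 i
        rw [wa, wb] at this
        linear_combination this
      have := (mul_eq_zero.mp h3).resolve_left hne
      rw [← Gc]; exact this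
    apply hw
    funext j
    rcases cases3 hab hbc hac j with rfl | rfl | rfl
    · exact wa
    · exact wb
    · exact wc
  -- scaling
  let D : Fin 3 → F := fun i => if i = a then G.det⁻¹ else 1
  have hD : (Matrix.diagonal D).det = G.det⁻¹ := by
    rw [Matrix.det_diagonal]
    have : ∏ i, D i = D a * D b * D c := by
      have hu : (Finset.univ : Finset (Fin 3)) = {a, b, c} := by
        clear * - hab hbc hac
        revert a b c; decide
      rw [hu, Finset.prod_insert, Finset.prod_insert, Finset.prod_singleton, mul_assoc]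
      · simpa using hbc
      · simp [hab, hac]
    rw [this]
    simp [D, hab.symm, hac.symm]
  let P : S3 F := ⟨G * Matrix.diagonal D, by rw [Matrix.det_mul, hD, mul_inv_cancel₀ hdet]⟩
  have hcomm : ∀ d : Fin 3, Matrix.diagonal D * (dg d : S3 F).1 = (dg d : S3 F).1 * Matrix.diagonal D := by
    intro d
    change Matrix.diagonal D * Matrix.diagonal _ = Matrix.diagonal _ * Matrix.diagonal D
    rw [Matrix.diagonal_mul_diagonal, Matrix.diagonal_mul_diagonal]
    congr 1
    funext i
    rw [mul_comm]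
  have hUP : U * P = P * dg a := by
    apply Subtype.ext
    change U.1 * (G * Matrix.diagonal D) = G * Matrix.diagonal D * (dg a : S3 F).1
    rw [← mul_assoc, hUG, mul_assoc, mul_assoc, hcomm]
  have hVP : V * P = P * dg b := by
    apply Subtype.ext
    change V.1 * (G * Matrix.diagonal D) = G * Matrix.diagonal D * (dg b : S3 F).1
    rw [← mul_assoc, hVG, mul_assoc, mul_assoc, hcomm]
  refine ⟨P⁻¹, ?_, ?_⟩
  · rw [inv_inv, mul_assoc, hUP, inv_mul_cancel_left]
  · rw [inv_inv, mul_assoc, hVP, inv_mul_cancel_left]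

/-! ### lifting to `SL₃` -/

theorem center_pow {ζ : S3 F} (h : ζ ∈ Subgroup.center (S3 F)) : ζ ^ 3 = 1 := by
  obtain ⟨r, hr, e⟩ := Matrix.SpecialLinearGroup.mem_center_iff.mp h
  apply Subtype.ext
  rw [Matrix.SpecialLinearGroup.coe_pow, ← e, ← map_pow]
  have : r ^ 3 = 1 := hr
  rw [this, map_one]; rfl

/-- the projection -/
abbrev pr (F : Type u) [Field F] : S3 F →* S3 F ⧸ Subgroup.center (S3 F) := QuotientGroup.mk' _

theorem pr_eq_one {x : S3 F} : pr F x = 1 ↔ x ∈ Subgroup.center (S3 F) := QuotientGroup.eq_one_iff x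

theorem pr_surj (x : S3 F ⧸ Subgroup.center (S3 F)) : ∃ X, pr F X = x := QuotientGroup.mk'_surjective _ x

theorem exists_lift {x : S3 F ⧸ Subgroup.center (S3 F)} (hx : x * x = 1) :
    ∃ X : S3 F, pr F X = x ∧ X * X = 1 := by
  obtain ⟨X, rfl⟩ := pr_surj x
  rw [← map_mul, pr_eq_one] at hx
  refine ⟨X ^ 3, ?_, ?_⟩
  · rw [map_pow, pow_succ, pow_two, ← map_mul, pr_eq_one.mpr hx, one_mul]
  · have := center_pow hx
    rw [← pow_add, ← this, ← pow_two, ← pow_mul]

/-- an involution commuting modulo the centre commutes -/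
theorem comm_lift {X Y : S3 F} (hX : X * X = 1) (hc : pr F X * pr F Y = pr F Y * pr F X) : X * Y = Y * X := by
  have hζ : X * Y * X⁻¹ * Y⁻¹ ∈ Subgroup.center (S3 F) := by
    rw [← pr_eq_one, map_mul, map_mul, map_mul, hc, map_inv, map_inv]
    group
  obtain ⟨ζ, hz⟩ : ∃ ζ, ζ = X * Y * X⁻¹ * Y⁻¹ := ⟨_, rfl⟩
  rw [← hz] at hζ
  have hXi : X⁻¹ = X := inv_eq_of_mul_eq_one_left hX
  have e1 : X * Y * X = ζ * Y := by rw [hz, hXi]; group
  have e2 : ζ * ζ = 1 := by
    have h1 : Y = ζ * ζ * Y := by
      calc Y = (X * X) * Y * (X * X) := by rw [hX]; group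
        _ = X * (X * Y * X) * X := by group
        _ = X * (ζ * Y) * X := by rw [e1]
        _ = (X * ζ) * Y * X := by group
        _ = (ζ * X) * Y * X := by rw [Subgroup.mem_center_iff.mp hζ X]
        _ = ζ * (X * Y * X) := by group
        _ = ζ * ζ * Y := by rw [e1, ← mul_assoc]
    exact (mul_eq_right.mp h1.symm)
  have e3 : ζ = 1 := by
    have := center_pow hζ
    rwa [pow_succ, pow_two, e2, one_mul] at this
  calc X * Y = ζ * (Y * X) := by rw [hz]; group
    _ = Y * X := by rw [e3, one_mul]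

/-- **(D1)** -/
theorem exists_conj (h2 : (2 : F) ≠ 0) {u v : S3 F ⧸ Subgroup.center (S3 F)} (hu : u * u = 1)
    (hv : v * v = 1) (hu1 : u ≠ 1) (hv1 : v ≠ 1) (huv : u ≠ v) (hc : u * v = v * u) {a b : Fin 3}
    (hab : a ≠ b) : ∃ g : S3 F ⧸ Subgroup.center (S3 F), g * u * g⁻¹ = pr F (dg a) ∧
      g * v * g⁻¹ = pr F (dg b) := by
  obtain ⟨c, hbc, hac⟩ : ∃ c, b ≠ c ∧ a ≠ c := by revert a b; decide
  obtain ⟨U, rfl, hU⟩ := exists_lift hu
  obtain ⟨V, rfl, hV⟩ := exists_lift hv
  obtain ⟨g, h1, h3⟩ := exists_conj_lift h2 hU hV (fun e => hu1 (by rw [e, map_one]))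
    (fun e => hv1 (by rw [e, map_one])) (fun e => huv (by rw [e])) (comm_lift hU hc) hab hbc hac
  refine ⟨pr F g, ?_, ?_⟩
  · rw [← map_inv, ← map_mul, ← map_mul, h1]
  · rw [← map_inv, ← map_mul, ← map_mul, h3]

/-! ### blocks -/

section Triple

variable {a b c : Fin 3} (hab : a ≠ b) (hbc : b ≠ c) (hac : a ≠ c)

include hab hbc hac

theorem Blk_le_std : (Blk c : Subgroup (S3 F)) ≤ std a b := by
  -- the case `en g b a ≠ 0`
  have key : ∀ g ∈ (Blk c : Subgroup (S3 F)), en g b a ≠ 0 → g ∈ (std a b : Subgroup (S3 F)) := by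
    intro g hg hne
    obtain ⟨q1, q2, q3, q4, q5, hd⟩ := blk_entries hab hbc hac hg
    have t := fun (s : F) i k => tr_coe hab s i k
    have t' := fun (s : F) i k => tr_coe hab.symm s i k
    have e : g = SpecialLinearGroup.transvection hab ((en g a a - 1) / en g b a) *
        SpecialLinearGroup.transvection hab.symm (en g b a) *
        SpecialLinearGroup.transvection hab ((en g b b - 1) / en g b a) := by
      have hm : SpecialLinearGroup.transvection hab ((en g a a - 1) / en g b a) *
        SpecialLinearGroup.transvection hab.symm (en g b a) *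
        SpecialLinearGroup.transvection hab ((en g b b - 1) / en g b a) ∈ (std a b : Subgroup (S3 F)) :=
        mul_mem (mul_mem (X_le_std a b (tr_mem hab _)) (X_le_std' a b (tr_mem hab.symm _)))
          (X_le_std a b (tr_mem hab _))
      refine blk_ext hab hbc hac hg (std_le_Blk hab hbc hac hm) ?_ ?_ ?_ ?_
      all_goals
        simp only [en_mul _ (SpecialLinearGroup.transvection hab _), en_mul _
          (SpecialLinearGroup.transvection hab.symm _), sum3 hab hbc hac, t, t']
        simp [hab, hbc, hac, Ne.symm hab, Ne.symm hbc, Ne.symm hac]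
        first
          | done
          | (field_simp; done)
          | (field_simp; linear_combination hd)
          | (field_simp; linear_combination -hd)
          | (field_simp; ring)
    rw [e]
    exact mul_mem (mul_mem (X_le_std a b (tr_mem hab _)) (X_le_std' a b (tr_mem hab.symm _)))
          (X_le_std a b (tr_mem hab _))
  intro g hg
  by_cases hne : en g b a = 0
  · obtain ⟨q1, q2, q3, q4, q5, hd⟩ := blk_entries hab hbc hac hg
    have haa : en g a a ≠ 0 := fun e => by
      rw [e, hne] at hd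
      simp at hd
    have t' := fun (s : F) i k => tr_coe hab.symm s i k
    have hT : (SpecialLinearGroup.transvection hab.symm 1 : S3 F) ∈ (std a b : Subgroup (S3 F)) :=
      X_le_std' a b (tr_mem hab.symm _)
    have h1 := key (SpecialLinearGroup.transvection hab.symm 1 * g)
      (mul_mem (std_le_Blk hab hbc hac hT) hg) (by
        rw [en_mul, sum3 hab hbc hac]
        simp only [t']
        simp [hab, hbc, hac, Ne.symm hab, Ne.symm hbc, Ne.symm hac, hne, haa])
    exact (mul_mem_cancel_left hT).mp h1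
  · exact key g hg hne

theorem Blk_eq_std : (Blk c : Subgroup (S3 F)) = std a b :=
  le_antisymm (Blk_le_std hab hbc hac) (std_le_Blk hab hbc hac)

/-- **(D3)** -/
theorem std_inf_center : (std a b : Subgroup (S3 F)) ⊓ Subgroup.center (S3 F) = ⊥ := by
  rw [eq_bot_iff]
  rintro x ⟨h1, h2⟩
  rw [Subgroup.mem_bot]
  exact eq_one_of_center hab hbc hac (std_le_Blk hab hbc hac h1) h2

theorem pr_inj {x y : S3 F} (hx : x ∈ (std a b : Subgroup (S3 F))) (hy : y ∈ (std a b : Subgroup (S3 F)))
    (h : pr F x = pr F y) : x = y :=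
  inj_on hab hbc hac (pr F) (by rw [QuotientGroup.ker_mk']) (std_le_Blk hab hbc hac hx)
    (std_le_Blk hab hbc hac hy) h

/-- **(D3)** -/
theorem std_equiv : Nonempty ((std a b : Subgroup (S3 F)) ≃* SpecialLinearGroup (Fin 2) F) := by
  rw [← Blk_eq_std hab hbc hac]
  let f : (Blk c : Subgroup (S3 F)) →* SpecialLinearGroup (Fin 2) F :=
    { toFun := fun g => ⟨!![en g.1 a a, en g.1 a b; en g.1 b a, en g.1 b b], by
        rw [Matrix.det_fin_two_of]; exact (blk_entries hab hbc hac g.2).2.2.2.2.2⟩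
      map_one' := by
        apply Subtype.ext
        change !![en (1 : S3 F) a a, en (1 : S3 F) a b; en (1 : S3 F) b a, en (1 : S3 F) b b] = 1
        rw [en_one, en_one, en_one, en_one, if_pos rfl, if_pos rfl, if_neg hab, if_neg hab.symm]
        exact Matrix.one_fin_two.symm
      map_mul' := fun g h => by
        obtain ⟨p1, p2, p3, p4, p5, -⟩ := blk_entries hab hbc hac g.2
        apply Subtype.ext
        change !![en (g.1 * h.1) a a, en (g.1 * h.1) a b; en (g.1 * h.1) b a, en (g.1 * h.1) b b] =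
          !![en g.1 a a, en g.1 a b; en g.1 b a, en g.1 b b] * !![en h.1 a a, en h.1 a b; en h.1 b a, en h.1 b b]
        rw [Matrix.mul_fin_two]
        simp only [en_mul, sum3 hab hbc hac, p4, p5, zero_mul, add_zero] }
  refine ⟨MulEquiv.ofBijective f ⟨fun g h e => ?_, fun M => ?_⟩⟩
  · have e1 : !![en g.1 a a, en g.1 a b; en g.1 b a, en g.1 b b] =
      !![en h.1 a a, en h.1 a b; en h.1 b a, en h.1 b b] := congrArg Subtype.val e
    have e2 := fun i j => congrFun (congrFun e1 i) j
    have e00 := e2 0 0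
    have e01 := e2 0 1
    have e10 := e2 1 0
    have e11 := e2 1 1
    simp at e00 e01 e10 e11
    exact Subtype.ext (blk_ext hab hbc hac g.2 h.2 e00 e01 e10 e11)
  · have hM : M.1 0 0 * M.1 1 1 - M.1 0 1 * M.1 1 0 = 1 := by
      rw [← Matrix.det_fin_two]; exact M.2
    let N : Matrix (Fin 3) (Fin 3) F := fun i j =>
      if i = a then (if j = a then M.1 0 0 else if j = b then M.1 0 1 else 0)
      else if i = b then (if j = a then M.1 1 0 else if j = b then M.1 1 1 else 0)
      else (if j = c then 1 else 0)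
    have Naa : N a a = M.1 0 0 := by simp [N]
    have Nab : N a b = M.1 0 1 := by simp [N, hab.symm]
    have Nac : N a c = 0 := by simp [N, hac.symm, hbc.symm]
    have Nba : N b a = M.1 1 0 := by simp [N, hab.symm]
    have Nbb : N b b = M.1 1 1 := by simp [N, hab.symm]
    have Nbc : N b c = 0 := by simp [N, hac.symm, hbc.symm, hab.symm]
    have Nca : N c a = 0 := by simp [N, hac.symm, hbc.symm, hac]
    have Ncb : N c b = 0 := by simp [N, hac.symm, hbc.symm, hbc]
    have Ncc : N c c = 1 := by simp [N, hac.symm, hbc.symm]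
    have hdet : N.det = 1 := by
      rw [det3 hab hbc hac, Naa, Nab, Nac, Nba, Nbb, Nbc, Nca, Ncb, Ncc]
      linear_combination hM
    have hg : (⟨N, hdet⟩ : S3 F) ∈ (Blk c : Subgroup (S3 F)) := by
      intro i
      change N i c = _ ∧ N c i = _
      rcases cases3 hab hbc hac i with rfl | rfl | rfl
      · rw [Nac, Nca, if_neg hac]; exact ⟨rfl, rfl⟩
      · rw [Nbc, Ncb, if_neg hbc]; exact ⟨rfl, rfl⟩
      · rw [Ncc, if_pos rfl]; exact ⟨rfl, rfl⟩
    refine ⟨⟨⟨N, hdet⟩, hg⟩, ?_⟩
    apply Subtype.ext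
    change !![N a a, N a b; N b a, N b b] = M.1
    rw [Naa, Nab, Nba, Nbb]
    exact (Matrix.eta_fin_two M.1).symm

/-- **(D4)** -/
theorem std_sup : (std a b : Subgroup (S3 F)) ⊔ std b c = ⊤ := by
  have hX : ∀ t : F, (SpecialLinearGroup.transvection hac t : S3 F) ∈ (std a b ⊔ std b c : Subgroup (S3 F)) := by
    intro t
    have := tr_br hab hbc hac t (1 : F)
    rw [mul_one] at this
    rw [← this]
    have h1 : (SpecialLinearGroup.transvection hab t : S3 F) ∈ (std a b ⊔ std b c : Subgroup (S3 F)) :=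
      le_sup_left (a := (std a b : Subgroup (S3 F))) (X_le_std a b (tr_mem hab _))
    have h2 : (SpecialLinearGroup.transvection hbc 1 : S3 F) ∈ (std a b ⊔ std b c : Subgroup (S3 F)) :=
      le_sup_right (a := (std a b : Subgroup (S3 F))) (X_le_std b c (tr_mem hbc _))
    exact mul_mem (mul_mem (mul_mem h1 h2) (inv_mem h1)) (inv_mem h2)
  have hX' : ∀ t : F, (SpecialLinearGroup.transvection hac.symm t : S3 F) ∈
      (std a b ⊔ std b c : Subgroup (S3 F)) := by
    intro t
    have := tr_br hbc.symm hab.symm hac.symm t (1 : F)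
    rw [mul_one] at this
    rw [← this]
    have h1 : (SpecialLinearGroup.transvection hbc.symm t : S3 F) ∈ (std a b ⊔ std b c : Subgroup (S3 F)) :=
      le_sup_right (a := (std a b : Subgroup (S3 F))) (X_le_std' b c (tr_mem hbc.symm _))
    have h2 : (SpecialLinearGroup.transvection hab.symm 1 : S3 F) ∈ (std a b ⊔ std b c : Subgroup (S3 F)) :=
      le_sup_left (a := (std a b : Subgroup (S3 F))) (X_le_std' a b (tr_mem hab.symm _))
    exact mul_mem (mul_mem (mul_mem h1 h2) (inv_mem h1)) (inv_mem h2)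
  rw [eq_top_iff, ← LieClassical.SLGen.closure_transvections, Subgroup.closure_le]
  rintro _ ⟨i, j, hij, t, rfl⟩
  rcases cases3 hab hbc hac i with rfl | rfl | rfl <;> rcases cases3 hab hbc hac j with rfl | rfl | rfl
  · exact absurd rfl hij
  · exact le_sup_left (a := (std i j : Subgroup (S3 F))) (X_le_std i j (tr_mem hij _))
  · exact hX t
  · exact le_sup_left (a := (std j i : Subgroup (S3 F))) (X_le_std' j i (tr_mem hij _))
  · exact absurd rfl hij
  · exact le_sup_right (a := (std a i : Subgroup (S3 F))) (X_le_std i j (tr_mem hij _))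
  · exact hX' t
  · exact le_sup_right (a := (std a j : Subgroup (S3 F))) (X_le_std' j i (tr_mem hij _))
  · exact absurd rfl hij

omit hab hbc hac in
theorem comm_dg (h2 : (2 : F) ≠ 0) {g : S3 F} (hg : g * dg c = dg c * g) {i : Fin 3} (hi : i ≠ c) :
    en g i c = 0 ∧ en g c i = 0 := by
  have h1 : dg c * g * (dg c)⁻¹ = g := by rw [← hg, mul_inv_cancel_right]
  have h3 := fun i k => dg_conj c g i k
  rw [h1] at h3
  constructor
  · have := h3 i c
    rw [if_neg hi, if_pos rfl] at this
    have e : 2 * en g i c = 0 := by linear_combination this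
    exact (mul_eq_zero.mp e).resolve_left h2
  · have := h3 c i
    rw [if_neg hi, if_pos rfl] at this
    have e : 2 * en g c i = 0 := by linear_combination this
    exact (mul_eq_zero.mp e).resolve_left h2

/-- a commutator of elements commuting with `dg c` lies in the block -/
theorem comm_mem_std (h2 : (2 : F) ≠ 0) {g h : S3 F} (hg : g * dg c = dg c * g) (hh : h * dg c = dg c * h) :
    g * h * g⁻¹ * h⁻¹ ∈ (std a b : Subgroup (S3 F)) := by
  rw [← Blk_eq_std hab hbc hac]
  have key : ∀ {x : S3 F}, x * dg c = dg c * x → x⁻¹ * dg c = dg c * x⁻¹ := fun {x} hx => by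
    calc x⁻¹ * dg c = x⁻¹ * (dg c * x) * x⁻¹ := by group
      _ = x⁻¹ * (x * dg c) * x⁻¹ := by rw [hx]
      _ = dg c * x⁻¹ := by group
  have kmul : ∀ {x y : S3 F}, x * dg c = dg c * x → y * dg c = dg c * y →
      (x * y) * dg c = dg c * (x * y) := fun {x y} hx hy => by
    rw [mul_assoc, hy, ← mul_assoc, hx, mul_assoc]
  have cc : ∀ {x y : S3 F}, x * dg c = dg c * x → en (x * y) c c = en x c c * en y c c := by
    intro x y hx
    rw [en_mul, sum3 hab hbc hac, (comm_dg h2 hx hac).2, (comm_dg h2 hx hbc).2]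
    ring
  have cinv : ∀ {x : S3 F}, x * dg c = dg c * x → en x c c * en x⁻¹ c c = 1 := by
    intro x hx
    rw [← cc hx, mul_inv_cancel, en_one, if_pos rfl]
  have hgi := key hg
  have hhi := key hh
  have hk := kmul (kmul (kmul hg hh) hgi) hhi
  intro i
  by_cases hi : i = c
  · subst hi
    rw [if_pos rfl, and_self, cc (kmul (kmul hg hh) hgi), cc (kmul hg hh), cc hg]
    linear_combination en h i i * en h⁻¹ i i * cinv hg + cinv hh
  · rw [if_neg hi]
    exact comm_dg h2 hk hi

/-- **(D2)** -/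
theorem le_std (h2 : (2 : F) ≠ 0) {A : Subgroup (S3 F ⧸ Subgroup.center (S3 F))} (hA : ⁅A, A⁆ = A)
    (hc : A ≤ Subgroup.centralizer {pr F (dg c)}) : A ≤ (std a b : Subgroup (S3 F)).map (pr F) := by
  have key : ∀ X : S3 F, pr F X ∈ A → X * dg c = dg c * X := by
    intro X hX
    have h1 := Subgroup.mem_centralizer_singleton_iff.mp (hc hX)
    exact (comm_lift (dg_sq c) h1.symm).symm
  rw [← hA, Subgroup.commutator_le]
  intro x hx y hy
  obtain ⟨X, rfl⟩ := pr_surj x
  obtain ⟨Y, rfl⟩ := pr_surj y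
  rw [commutatorElement_def, ← map_inv, ← map_inv, ← map_mul, ← map_mul, ← map_mul]
  exact Subgroup.mem_map_of_mem _ (comm_mem_std hab hbc hac h2 (key X hx) (key Y hy))

/-- **(D5)** -/
theorem eq_std [Finite F] (h2 : (2 : F) ≠ 0) {A : Subgroup (S3 F ⧸ Subgroup.center (S3 F))} (hA : ⁅A, A⁆ = A)
    (hc : A ≤ Subgroup.centralizer {pr F (dg c)}) (hcard : Nat.card A = Nat.card (SpecialLinearGroup (Fin 2) F)) :
    A = (std a b : Subgroup (S3 F)).map (pr F) := by
  have : Finite (S3 F) := inferInstance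
  refine Subgroup.eq_of_le_of_card_ge (le_std hab hbc hac h2 hA hc) ?_
  rw [hcard]
  obtain ⟨e⟩ := std_equiv (F := F) hab hbc hac
  rw [← Nat.card_congr e.toEquiv]
  exact Nat.card_le_card_of_surjective (fun x : (std a b : Subgroup (S3 F)) =>
    (⟨pr F x.1, Subgroup.mem_map_of_mem _ x.2⟩ : (std a b : Subgroup (S3 F)).map (pr F))) (by
      rintro ⟨_, x, hx, rfl⟩
      exact ⟨⟨x, hx⟩, rfl⟩)

end Triple

end Cfsg.Agent.LThreeModel.SL3
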