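import Mathlib
import Cfsg.Agent.LThreeExt.SU3
import Cfsg.Agent.LThreeModel.SL3
import Cfsg.Agent.Phan.Main
import Cfsg.Agent.LieClassical.SUBasic
import Cfsg.Agent.ClassicalGeometry.PSL2Basic

/-!
# Facts on `PSU₃(q)`, `q` odd (S0510, piece (M-))

`std hF c` = the standard `SU₂` on the points `≠ c` (`LThreeExt.SU3`), `dg hF c = diag(1 at c, -1 else)`,
`pr` the projection `SU₃ → PSU₃`.

* `exists_conj` (D1): two different commuting involutions of `PSU₃` are simultaneously conjugate to `pr (dg a)`, `pr (dg b)`;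
* `le_std` (D2): a perfect subgroup of `PSU₃` centralizing `pr (dg c)` lies in the image of `std c`;
* `std_equiv`, `std_inf_center` (D3); `std_sup` (D4); `eq_std` (D5).
-/

set_option autoImplicit false
set_option linter.unusedSectionVars false

namespace Cfsg.Agent.LThreeModel.SU3

open Matrix Cfsg Cfsg.Agent.Phan Cfsg.Agent.LThreeExt.SU3
open Cfsg.Agent.LieClassical.GUOrder (frob frob_apply mul_map_eq_one_iff two_le)
open Cfsg.Agent.LieClassical.SUBasic (mem_center_SU_iff)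

universe u

variable {F : Type u} [Field F] [Fintype F] {q : ℕ}

/-- the projection -/
abbrev pr (F : Type u) [Field F] (q : ℕ) : SU 3 F q →* PSU 3 F q := QuotientGroup.mk' (Subgroup.center (SU 3 F q))

theorem pr_eq_one {x : SU 3 F q} : pr F q x = 1 ↔ x ∈ Subgroup.center (SU 3 F q) := QuotientGroup.eq_one_iff x

theorem pr_surj (x : PSU 3 F q) : ∃ X, pr F q X = x := QuotientGroup.mk'_surjective _ x

/-- the diagonal involution with `1` at `c` -/
def dg (hF : Fintype.card F = q ^ 2) (c : Fin 3) : SU 3 F q :=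
  mk (CTFrame.SL3.dg c : CTFrame.SL3.S3 F).1 (CTFrame.SL3.dg c : CTFrame.SL3.S3 F).2 ((mul_map_eq_one_iff hF _).2 (by
    change (Matrix.diagonal _)ᵀ * (Matrix.diagonal _).map (frob hF) = 1
    rw [Matrix.diagonal_transpose, Matrix.diagonal_map (map_zero _), Matrix.diagonal_mul_diagonal,
      ← Matrix.diagonal_one]
    congr 1
    funext i
    split_ifs <;> simp))

theorem dg_coe (hF : Fintype.card F = q ^ 2) (c : Fin 3) : (dg hF c).1 = CTFrame.SL3.dg c := rfl

theorem mat_dg (hF : Fintype.card F = q ^ 2) (c : Fin 3) :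
    mat (dg hF c) = Matrix.diagonal fun i => if i = c then 1 else -1 := rfl

theorem dg_sq (hF : Fintype.card F = q ^ 2) (c : Fin 3) : dg hF c * dg hF c = 1 :=
  Subtype.ext (CTFrame.SL3.dg_sq c)

theorem dg_ne (hF : Fintype.card F = q ^ 2) (h2 : (2 : F) ≠ 0) (c : Fin 3) : dg hF c ≠ 1 :=
  fun h => CTFrame.SL3.dg_ne h2 c (congrArg Subtype.val h)

theorem dg_mul (hF : Fintype.card F = q ^ 2) {a b c : Fin 3} (hab : a ≠ b) (hbc : b ≠ c) (hac : a ≠ c) :
    dg hF a * dg hF b = dg hF c :=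
  Subtype.ext (CTFrame.SL3.dg_mul hab hbc hac)

/-! ### the centre -/

theorem center_pow (hF : Fintype.card F = q ^ 2) {ζ : SU 3 F q} (h : ζ ∈ Subgroup.center (SU 3 F q)) :
    ζ ^ 3 = 1 := by
  obtain ⟨c, h3, hq, rfl⟩ := (mem_center_SU_iff hF le_rfl ζ).mp h
  apply Subtype.ext
  apply Subtype.ext
  change (Matrix.diagonal fun _ => c : Matrix (Fin 3) (Fin 3) F) ^ 3 = 1
  rw [Matrix.diagonal_pow, ← Matrix.diagonal_one]
  congr 1
  funext i
  exact h3

theorem center_coe (hF : Fintype.card F = q ^ 2) {ζ : SU 3 F q} (h : ζ ∈ Subgroup.center (SU 3 F q)) :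
    ∃ c : F, mat ζ = Matrix.diagonal fun _ => c := by
  obtain ⟨c, h3, hq, rfl⟩ := (mem_center_SU_iff hF le_rfl ζ).mp h
  exact ⟨c, rfl⟩

theorem center_le (hF : Fintype.card F = q ^ 2) {ζ : SU 3 F q} (h : ζ ∈ Subgroup.center (SU 3 F q)) :
    ζ.1 ∈ Subgroup.center (CTFrame.SL3.S3 F) := by
  obtain ⟨c, hc⟩ := center_coe hF h
  rw [Subgroup.mem_center_iff]
  intro g
  apply Subtype.ext
  change g.1 * mat ζ = mat ζ * g.1
  rw [hc]
  ext i j
  rw [Matrix.mul_diagonal, Matrix.diagonal_mul, mul_comm]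

theorem exists_lift (hF : Fintype.card F = q ^ 2) {x : PSU 3 F q} (hx : x * x = 1) :
    ∃ X : SU 3 F q, pr F q X = x ∧ X * X = 1 := by
  obtain ⟨X, rfl⟩ := pr_surj x
  rw [← map_mul, pr_eq_one] at hx
  refine ⟨X ^ 3, ?_, ?_⟩
  · rw [map_pow, pow_succ, pow_two, ← map_mul, pr_eq_one.mpr hx, one_mul]
  · have := center_pow hF hx
    rw [← pow_add, ← this, ← pow_two, ← pow_mul]

/-- an involution commuting modulo the centre commutes -/
theorem comm_lift (hF : Fintype.card F = q ^ 2) {X Y : SU 3 F q} (hX : X * X = 1)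
    (hc : pr F q X * pr F q Y = pr F q Y * pr F q X) : X * Y = Y * X := by
  have hζ : X * Y * X⁻¹ * Y⁻¹ ∈ Subgroup.center (SU 3 F q) := by
    rw [← pr_eq_one, map_mul, map_mul, map_mul, hc, map_inv, map_inv]
    group
  obtain ⟨ζ, hz⟩ : ∃ ζ, ζ = X * Y * X⁻¹ * Y⁻¹ := ⟨_, rfl⟩
  rw [← hz] at hζ
  have hXi : X⁻¹ = X := inv_eq_of_mul_eq_one_left hX
  have e1 : X * Y * X = ζ * Y := by rw [hz, hXi]; group
  have e2 : ζ * ζ = 1 := by
    have h1 : Y = ζ * ζ * Y := by
      calc Y = (X * X) * Y * (X * X) := by rw [hX]; group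
        _ = X * (X * Y * X) * X := by group
        _ = X * (ζ * Y) * X := by rw [e1]
        _ = (X * ζ) * Y * X := by group
        _ = (ζ * X) * Y * X := by rw [Subgroup.mem_center_iff.mp hζ X]
        _ = ζ * (X * Y * X) := by group
        _ = ζ * ζ * Y := by rw [e1, ← mul_assoc]
    exact (mul_eq_right.mp h1.symm)
  have e3 : ζ = 1 := by
    have := center_pow hF hζ
    rwa [pow_succ, pow_two, e2, one_mul] at this
  calc X * Y = ζ * (Y * X) := by rw [hz]; group
    _ = Y * X := by rw [e3, one_mul]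

/-! ### simultaneous diagonalization -/

theorem exists_conj_lift (hF : Fintype.card F = q ^ 2) (h2 : (2 : F) ≠ 0) {U V : SU 3 F q} (hU : U * U = 1)
    (hV : V * V = 1) (hU1 : U ≠ 1) (hV1 : V ≠ 1) (hUV : U ≠ V) (hc : U * V = V * U) {a b c : Fin 3}
    (hab : a ≠ b) (hbc : b ≠ c) (hac : a ≠ c) :
    ∃ g : SU 3 F q, g * U * g⁻¹ = dg hF a ∧ g * V * g⁻¹ = dg hF b := by
  obtain ⟨g, hgU, hgV⟩ := SL3.exists_conj_lift h2 (U := U.1) (V := V.1) (congrArg Subtype.val hU)
    (congrArg Subtype.val hV) (fun h => hU1 (Subtype.ext h)) (fun h => hV1 (Subtype.ext h))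
    (fun h => hUV (Subtype.ext h)) (congrArg Subtype.val hc) hab hbc hac
  -- the matrix of eigenvectors
  obtain ⟨G, hGdet, hUG, hVG⟩ : ∃ G : Matrix (Fin 3) (Fin 3) F, G.det = 1 ∧ mat U * G = G * mat (dg hF a) ∧
      mat V * G = G * mat (dg hF b) := by
    refine ⟨(g⁻¹).1, (g⁻¹).2, ?_, ?_⟩
    · have h1 : U.1 * g⁻¹ = g⁻¹ * CTFrame.SL3.dg a := by rw [← hgU]; group
      exact congrArg Subtype.val h1
    · have h1 : V.1 * g⁻¹ = g⁻¹ * CTFrame.SL3.dg b := by rw [← hgV]; group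
      exact congrArg Subtype.val h1
  -- the Gram matrix
  set H : Matrix (Fin 3) (Fin 3) F := Gᵀ * G.map (frob hF) with hH
  have hsym : ∀ X : SU 3 F q, ∀ d : Fin 3, mat X * G = G * mat (dg hF d) →
      ∀ i j, H i j = (if i = d then 1 else -1) * H i j * (if j = d then 1 else -1) := by
    intro X d hX i j
    have h1 : H = mat (dg hF d) * H * mat (dg hF d) := by
      have hXX := mat_eq hF X
      have hdd : (mat (dg hF d)).map (frob hF) = mat (dg hF d) := by
        rw [mat_dg, Matrix.diagonal_map (map_zero _)]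
        congr 1
        funext i
        split_ifs <;> simp
      have hdt : (mat (dg hF d))ᵀ = mat (dg hF d) := by rw [mat_dg, Matrix.diagonal_transpose]
      calc H = Gᵀ * 1 * G.map (frob hF) := by rw [Matrix.mul_one]
        _ = Gᵀ * ((mat X)ᵀ * (mat X).map (frob hF)) * G.map (frob hF) := by rw [hXX]
        _ = (mat X * G)ᵀ * (mat X * G).map (frob hF) := by
            rw [Matrix.transpose_mul, Matrix.map_mul]; simp only [Matrix.mul_assoc]
        _ = (G * mat (dg hF d))ᵀ * (G * mat (dg hF d)).map (frob hF) := by rw [hX]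
        _ = mat (dg hF d) * H * mat (dg hF d) := by
            rw [Matrix.transpose_mul, Matrix.map_mul, hdd, hdt, hH]; simp only [Matrix.mul_assoc]
    conv_lhs => rw [h1]
    rw [mat_dg, Matrix.mul_diagonal, Matrix.diagonal_mul]
  have hoff : ∀ i j, i ≠ j → H i j = 0 := by
    intro i j hij
    have key : H i j = -H i j → H i j = 0 := fun h => by
      have h3 : 2 * H i j = 0 := by linear_combination h
      exact (mul_eq_zero.mp h3).resolve_left h2
    have ka := hsym U a hUG i j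
    have kb := hsym V b hVG i j
    rcases CTFrame.SL3.cases3 hab hbc hac i with rfl | rfl | rfl <;>
      rcases CTFrame.SL3.cases3 hab hbc hac j with rfl | rfl | rfl <;>
      simp [hab, hbc, hac, hab.symm, hbc.symm, hac.symm] at ka kb hij ⊢ <;>
      first
        | exact key ka
        | exact key kb
  have hHdiag : H = Matrix.diagonal fun i => H i i := by
    ext i j
    rcases eq_or_ne i j with rfl | hij
    · rw [Matrix.diagonal_apply_eq]
    · rw [Matrix.diagonal_apply_ne _ hij, hoff i j hij]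
  have hHdet : ∏ i, H i i = 1 := by
    have h1 : H.det = 1 := by
      rw [hH, Matrix.det_mul, Matrix.det_transpose, hGdet, one_mul, ← RingHom.mapMatrix_apply,
        ← RingHom.map_det, hGdet, map_one]
    rw [hHdiag, Matrix.det_diagonal] at h1
    exact h1
  have hH0 : ∀ i, H i i ≠ 0 := fun i h => by
    have h1 : ∏ i, H i i = 0 := Finset.prod_eq_zero (f := fun i => H i i) (Finset.mem_univ i) h
    exact zero_ne_one (h1.symm.trans hHdet)
  have hHfix : ∀ i, (H i i) ^ q = H i i := by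
    intro i
    have h1 : H i i = hermForm 3 F q (fun k => G k i) (fun k => G k i) := by
      rw [hH, Matrix.mul_apply]
      rfl
    rw [h1]
    exact Cfsg.Agent.LieClassical.HermBasic.herm_self_pow hF _
  have hnorm : ∀ i, ∃ x : F, x ≠ 0 ∧ x * x ^ q = (H i i)⁻¹ := fun i =>
    Cfsg.Agent.LieClassical.HermBasic.exists_norm_eq_ne hF (by rw [inv_pow, hHfix]) (inv_ne_zero (hH0 i))
  choose l hl0 hl using hnorm
  set δ : F := ∏ i, l i with hδ
  have hδ0 : δ ≠ 0 := Finset.prod_ne_zero_iff.mpr fun i _ => hl0 i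
  have hδn : δ * δ ^ q = 1 := by
    rw [hδ, ← Finset.prod_pow, ← Finset.prod_mul_distrib]
    rw [Finset.prod_congr rfl fun i _ => hl i, Finset.prod_inv_distrib, hHdet, inv_one]
  let m : Fin 3 → F := fun i => if i = a then l i * δ⁻¹ else l i
  have hm : ∀ i, m i * (m i) ^ q = (H i i)⁻¹ := by
    intro i
    by_cases hi : i = a
    · have e : m i = l i * δ⁻¹ := if_pos hi
      rw [e, mul_pow, inv_pow]
      have : δ ^ q ≠ 0 := pow_ne_zero _ hδ0
      calc l i * δ⁻¹ * (l i ^ q * (δ ^ q)⁻¹) = (l i * l i ^ q) * (δ * δ ^ q)⁻¹ := by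
            rw [mul_inv]; ring
        _ = (H i i)⁻¹ := by rw [hδn, inv_one, mul_one, hl]
    · have e : m i = l i := if_neg hi
      rw [e, hl]
  have hmdet : ∏ i, m i = 1 := by
    have h1 : ∀ f : Fin 3 → F, ∏ i, f i = f a * f b * f c := by
      intro f
      have hu : (Finset.univ : Finset (Fin 3)) = {a, b, c} := by
        clear * - hab hbc hac
        revert a b c; decide
      rw [hu, Finset.prod_insert, Finset.prod_insert, Finset.prod_singleton, mul_assoc]
      · simpa using hbc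
      · simp [hab, hac]
    have h3 : δ = l a * l b * l c := by rw [hδ, h1]
    have ea : m a = l a * δ⁻¹ := if_pos rfl
    have eb : m b = l b := if_neg hab.symm
    have ec : m c = l c := if_neg hac.symm
    rw [h1, ea, eb, ec]
    calc l a * δ⁻¹ * l b * l c = (l a * l b * l c) * δ⁻¹ := by ring
      _ = 1 := by rw [← h3, mul_inv_cancel₀ hδ0]
  let P : SU 3 F q := mk (G * Matrix.diagonal m) (by rw [Matrix.det_mul, hGdet, one_mul, Matrix.det_diagonal, hmdet])
    ((mul_map_eq_one_iff hF _).2 (by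
      rw [Matrix.transpose_mul, Matrix.map_mul, Matrix.diagonal_transpose, Matrix.diagonal_map (map_zero _)]
      calc Matrix.diagonal m * Gᵀ * (G.map (frob hF) * Matrix.diagonal (frob hF ∘ m))
          = Matrix.diagonal m * H * Matrix.diagonal (frob hF ∘ m) := by
            rw [hH]; simp only [Matrix.mul_assoc]
        _ = 1 := by
            rw [hHdiag, Matrix.diagonal_mul_diagonal, Matrix.diagonal_mul_diagonal, ← Matrix.diagonal_one]
            congr 1
            funext i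
            simp only [Function.comp_apply, frob_apply]
            have := hm i
            have h0 := hH0 i
            calc m i * H i i * m i ^ q = (m i * m i ^ q) * H i i := by ring
              _ = 1 := by rw [this, inv_mul_cancel₀ h0]))
  have hmP : mat P = G * Matrix.diagonal m := rfl
  have hcomm : ∀ (X : SU 3 F q) (d : Fin 3), mat X * G = G * mat (dg hF d) → X * P = P * dg hF d := by
    intro X d hX
    apply mat_inj
    rw [mat_mul, mat_mul, hmP, ← Matrix.mul_assoc, hX, Matrix.mul_assoc, Matrix.mul_assoc, mat_dg,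
      Matrix.diagonal_mul_diagonal, Matrix.diagonal_mul_diagonal]
    congr 2
    funext i
    rw [mul_comm]
  refine ⟨P⁻¹, ?_, ?_⟩
  · rw [inv_inv, mul_assoc, hcomm U a hUG, inv_mul_cancel_left]
  · rw [inv_inv, mul_assoc, hcomm V b hVG, inv_mul_cancel_left]

/-- **(D1)** -/
theorem exists_conj (hF : Fintype.card F = q ^ 2) (h2 : (2 : F) ≠ 0) {u v : PSU 3 F q} (hu : u * u = 1)
    (hv : v * v = 1) (hu1 : u ≠ 1) (hv1 : v ≠ 1) (huv : u ≠ v) (hc : u * v = v * u) {a b : Fin 3}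
    (hab : a ≠ b) : ∃ g : PSU 3 F q, g * u * g⁻¹ = pr F q (dg hF a) ∧ g * v * g⁻¹ = pr F q (dg hF b) := by
  obtain ⟨c, hbc, hac⟩ : ∃ c, b ≠ c ∧ a ≠ c := by revert a b; decide
  obtain ⟨U, rfl, hU⟩ := exists_lift hF hu
  obtain ⟨V, rfl, hV⟩ := exists_lift hF hv
  obtain ⟨g, h1, h3⟩ := exists_conj_lift hF h2 hU hV (fun e => hu1 (by rw [e, map_one]))
    (fun e => hv1 (by rw [e, map_one])) (fun e => huv (by rw [e])) (comm_lift hF hU hc) hab hbc hac
  refine ⟨pr F q g, ?_, ?_⟩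
  · rw [← map_inv, ← map_mul, ← map_mul, h1]
  · rw [← map_inv, ← map_mul, ← map_mul, h3]

/-! ### blocks -/

theorem mem_std_of_extM (hF : Fintype.card F = q ^ 2) {c : Fin 3} {g : SU 3 F q}
    {B : Matrix (Fin 2) (Fin 2) F} (h : mat g = extM (LThreeExt.SU3.pr c) B) : g ∈ std hF c := by
  have hd : B.det = 1 := by
    rw [← extM_det (pr_inj c), ← h, mat_det]
  have hB : Bᵀ * B.map (frob hF) = 1 := by
    have h1 := mat_eq hF g
    rw [h, extM_transpose, extM_map, ← extM_mul (pr_inj c)] at h1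
    apply extM_inj (pr_inj c)
    rw [h1, extM_one]
  refine ⟨mk2 hF B hd hB, ?_⟩
  apply mat_inj
  rw [mat_em, mat_mk2, h]

/-- the block form -/
theorem mem_std_of_blk (hF : Fintype.card F = q ^ 2) {c : Fin 3} {g : SU 3 F q}
    (h : ∀ i, mat g i c = (if i = c then 1 else 0) ∧ mat g c i = (if i = c then 1 else 0)) :
    g ∈ std hF c := by
  refine mem_std_of_extM hF (B := Matrix.of fun i j => mat g (LThreeExt.SU3.pr c i) (LThreeExt.SU3.pr c j)) ?_
  have h0 := h 0
  have h1 := h 1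
  have h3 := h 2
  clear h
  fin_cases c
  · rw [show (⟨0, by decide⟩ : Fin 3) = 0 from rfl, extM0]
    simp at h0 h1 h3
    ext i j
    fin_cases i <;> fin_cases j <;> simp [LThreeExt.SU3.pr, h0, h1, h3]
  · rw [show (⟨1, by decide⟩ : Fin 3) = 1 from rfl, extM1]
    simp at h0 h1 h3
    ext i j
    fin_cases i <;> fin_cases j <;> simp [LThreeExt.SU3.pr, h0, h1, h3]
  · rw [show (⟨2, by decide⟩ : Fin 3) = 2 from rfl, extM2]
    simp at h0 h1 h3
    ext i j
    fin_cases i <;> fin_cases j <;> simp [LThreeExt.SU3.pr, h0, h1, h3]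

theorem blk_of_mem_std (hF : Fintype.card F = q ^ 2) {c : Fin 3} {g : SU 3 F q} (hg : g ∈ std hF c) (i : Fin 3) :
    mat g i c = (if i = c then 1 else 0) ∧ mat g c i = (if i = c then 1 else 0) := by
  obtain ⟨x, rfl⟩ := hg
  rw [mat_em]
  fin_cases c
  · rw [show (⟨0, by decide⟩ : Fin 3) = 0 from rfl, extM0]
    fin_cases i <;> simp
  · rw [show (⟨1, by decide⟩ : Fin 3) = 1 from rfl, extM1]
    fin_cases i <;> simp
  · rw [show (⟨2, by decide⟩ : Fin 3) = 2 from rfl, extM2]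
    fin_cases i <;> simp

/-- **(D3)** -/
theorem std_inf_center (hF : Fintype.card F = q ^ 2) (c : Fin 3) :
    std hF c ⊓ Subgroup.center (SU 3 F q) = ⊥ := by
  rw [eq_bot_iff]
  rintro x ⟨h1, h2⟩
  rw [Subgroup.mem_bot]
  obtain ⟨t, ht⟩ := center_coe hF h2
  have h3 := (blk_of_mem_std hF h1 c).1
  rw [ht, Matrix.diagonal_apply_eq, if_pos rfl] at h3
  apply mat_inj
  rw [ht, h3, mat_one, Matrix.diagonal_one]

theorem pr_inj' (hF : Fintype.card F = q ^ 2) {c : Fin 3} {x y : SU 3 F q} (hx : x ∈ std hF c)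
    (hy : y ∈ std hF c) (h : pr F q x = pr F q y) : x = y := by
  have h1 : x⁻¹ * y ∈ std hF c ⊓ Subgroup.center (SU 3 F q) :=
    Subgroup.mem_inf.mpr ⟨mul_mem (inv_mem hx) hy, by rw [← pr_eq_one, map_mul, map_inv, h, inv_mul_cancel]⟩
  rw [std_inf_center, Subgroup.mem_bot] at h1
  exact inv_mul_eq_one.mp h1

/-- **(D3)** -/
theorem std_equiv (hF : Fintype.card F = q ^ 2) (c : Fin 3) :
    Nonempty (std hF c ≃* SpecialLinearGroup (Fin 2) (fixedField hF)) := by
  obtain ⟨_, _, _, _, θ, _⟩ := exists_model hF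
  exact ⟨(stdEquiv hF c).symm.trans θ.symm⟩

theorem card_std (hF : Fintype.card F = q ^ 2) (c : Fin 3) :
    Nat.card (std hF c) = Nat.card (SU 2 F q) := (Nat.card_congr (stdEquiv hF c).toEquiv).symm

theorem dg_mem_std (hF : Fintype.card F = q ^ 2) (c : Fin 3) : dg hF c ∈ std hF c := by
  apply mem_std_of_blk hF
  intro i
  rw [mat_dg]
  rcases eq_or_ne i c with rfl | hi
  · simp
  · simp [hi, hi.symm]

/-- **(D4)** -/
theorem std_sup_zero (hF : Fintype.card F = q ^ 2) (hq : 3 ≤ q) : std hF 2 ⊔ std hF 0 = ⊤ := by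
  rw [eq_top_iff, ← closure_emb_eq_top hF hq 1, Subgroup.closure_le]
  rintro _ ⟨j, hj, x, rfl⟩
  have hj2 : j = 0 ∨ j = 1 := by omega
  rcases hj2 with rfl | rfl
  · refine le_sup_left (a := std hF 2) ⟨x, ?_⟩
    refine ext_congr hF (pr_inj 2) _ ?_ x
    funext i
    fin_cases i <;> rfl
  · refine le_sup_right (a := std hF 2) ⟨x, ?_⟩
    refine ext_congr hF (pr_inj 0) _ ?_ x
    funext i
    fin_cases i <;> rfl

theorem sup_eq_top_of_map {G : Type*} [Group G] {A B C : Subgroup G} (h : A ⊔ B = ⊤) {g : G} (hg : g ∈ A)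
    (hB : B.map (MulAut.conj g).toMonoidHom = C) : A ⊔ C = ⊤ := by
  have h1 := congrArg (Subgroup.map (MulAut.conj g).toMonoidHom) h
  rw [Subgroup.map_sup, map_conj_self hg, hB, ← MonoidHom.range_eq_map, MonoidHom.range_eq_top.mpr
    (MulAut.conj g).surjective] at h1
  exact h1

/-- **(D4)** -/
theorem std_sup (hF : Fintype.card F = q ^ 2) (hq : 3 ≤ q) {a b : Fin 3} (hab : a ≠ b) :
    std hF a ⊔ std hF b = ⊤ := by
  have h20 := std_sup_zero hF hq
  have h21 : std hF 2 ⊔ std hF 1 = ⊤ :=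
    sup_eq_top_of_map h20 (g := em hF 2 (wel hF)) ⟨_, rfl⟩ (map_conj_range id Function.surjective_id (n2_0 hF))
  have h01 : std hF 0 ⊔ std hF 1 = ⊤ :=
    sup_eq_top_of_map (by rw [sup_comm]; exact h20) (g := em hF 0 (wel hF)) ⟨_, rfl⟩
      (map_conj_range (tw hF) (tw_surj hF) (n0_2 hF))
  have key : ∀ a b : Fin 3, a ≠ b → (a = 2 ∧ b = 0) ∨ (a = 0 ∧ b = 2) ∨ (a = 2 ∧ b = 1) ∨ (a = 1 ∧ b = 2) ∨
      (a = 0 ∧ b = 1) ∨ (a = 1 ∧ b = 0) := by decide
  rcases key a b hab with ⟨rfl, rfl⟩ | ⟨rfl, rfl⟩ | ⟨rfl, rfl⟩ | ⟨rfl, rfl⟩ | ⟨rfl, rfl⟩ | ⟨rfl, rfl⟩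
  · exact h20
  · rw [sup_comm]; exact h20
  · exact h21
  · rw [sup_comm]; exact h21
  · exact h01
  · rw [sup_comm]; exact h01

theorem comm_dg (hF : Fintype.card F = q ^ 2) (h2 : (2 : F) ≠ 0) {c : Fin 3} {g : SU 3 F q}
    (hg : g * dg hF c = dg hF c * g) {i : Fin 3} (hi : i ≠ c) : mat g i c = 0 ∧ mat g c i = 0 :=
  SL3.comm_dg h2 (g := g.1) (congrArg Subtype.val hg) hi

/-- a commutator of elements commuting with `dg c` lies in the block -/
theorem comm_mem_std (hF : Fintype.card F = q ^ 2) (h2 : (2 : F) ≠ 0) {c : Fin 3} {g h : SU 3 F q}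
    (hg : g * dg hF c = dg hF c * g) (hh : h * dg hF c = dg hF c * h) : g * h * g⁻¹ * h⁻¹ ∈ std hF c := by
  obtain ⟨a, b, hab, hbc, hac⟩ : ∃ a b : Fin 3, a ≠ b ∧ b ≠ c ∧ a ≠ c := by
    clear hg hh
    revert c; decide
  have h1 := SL3.comm_mem_std hab hbc hac h2 (g := g.1) (h := h.1) (congrArg Subtype.val hg)
    (congrArg Subtype.val hh)
  rw [← SL3.Blk_eq_std hab hbc hac] at h1
  exact mem_std_of_blk hF h1

/-- **(D2)** -/
theorem le_std (hF : Fintype.card F = q ^ 2) (h2 : (2 : F) ≠ 0) {c : Fin 3} {A : Subgroup (PSU 3 F q)}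
    (hA : ⁅A, A⁆ = A) (hc : A ≤ Subgroup.centralizer {pr F q (dg hF c)}) : A ≤ (std hF c).map (pr F q) := by
  have key : ∀ X : SU 3 F q, pr F q X ∈ A → X * dg hF c = dg hF c * X := by
    intro X hX
    have h1 := Subgroup.mem_centralizer_singleton_iff.mp (hc hX)
    exact (comm_lift hF (dg_sq hF c) h1.symm).symm
  rw [← hA, Subgroup.commutator_le]
  intro x hx y hy
  obtain ⟨X, rfl⟩ := pr_surj x
  obtain ⟨Y, rfl⟩ := pr_surj y
  rw [commutatorElement_def, ← map_inv, ← map_inv, ← map_mul, ← map_mul, ← map_mul]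
  exact Subgroup.mem_map_of_mem _ (comm_mem_std hF h2 (key X hx) (key Y hy))

/-- **(D5)** -/
theorem eq_std (hF : Fintype.card F = q ^ 2) (h2 : (2 : F) ≠ 0) {c : Fin 3} {A : Subgroup (PSU 3 F q)}
    (hA : ⁅A, A⁆ = A) (hc : A ≤ Subgroup.centralizer {pr F q (dg hF c)})
    (hcard : Nat.card A = Nat.card (SU 2 F q)) : A = (std hF c).map (pr F q) := by
  have : Finite (SU 3 F q) := inferInstance
  refine Subgroup.eq_of_le_of_card_ge (le_std hF h2 hA hc) ?_
  rw [hcard, ← card_std hF c]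
  exact Nat.card_le_card_of_surjective (fun x : std hF c =>
    (⟨pr F q x.1, Subgroup.mem_map_of_mem _ x.2⟩ : (std hF c).map (pr F q))) (by
      rintro ⟨_, x, hx, rfl⟩
      exact ⟨⟨x, hx⟩, rfl⟩)

/-- the order, in the form of (D5) -/
theorem card_SU2_nat (hF : Fintype.card F = q ^ 2) : Nat.card (SU 2 F q) = q * (q ^ 2 - 1) := by
  have h := card_SU2 hF
  have h2 := two_le hF
  have h1 : 1 ≤ q ^ 2 := Nat.one_le_pow _ _ (by omega)
  zify [h1]
  rw [h]; ring

/-- **(D5)**, `A ≃ SL(2,q)` -/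
theorem eq_std_of_equiv (hF : Fintype.card F = q ^ 2) (h2 : (2 : F) ≠ 0) {c : Fin 3} {A : Subgroup (PSU 3 F q)}
    {K : Type*} [Field K] [Finite K] (hK : Nat.card K = q) (e : A ≃* SpecialLinearGroup (Fin 2) K)
    (hA : ⁅A, A⁆ = A) (hc : A ≤ Subgroup.centralizer {pr F q (dg hF c)}) :
    A = (std hF c).map (pr F q) := by
  refine eq_std hF h2 hA hc ?_
  have : Fintype K := Fintype.ofFinite K
  rw [card_SU2_nat hF, Nat.card_congr e.toEquiv, Cfsg.Agent.ClassicalGeometry.PSL2Basic.card_SL2,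
    ← Nat.card_eq_fintype_card, hK]

end Cfsg.Agent.LThreeModel.SU3
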